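import Mathlib
import Cfsg.Agent.H19.Th.DP.D0
import Cfsg.Agent.H19.ThT1
import Cfsg.Agent.H19.Th.DI

set_option autoImplicit false
set_option maxRecDepth 100000
set_option Elab.async false
set_option linter.all false

namespace H19.Th.DP
open H29

noncomputable def nl : List Net := [n0, n1, n2, n3, n4, n5, n6]
noncomputable def nets : ℕ → Net := nth Net.nil nl
theorem hn : NetsOK 819 nets := netsOK_of_all (by decide +kernel)
def G0 : List (List ℕ) := [[0, 1, 0, 1, 0, 1], [0, 4, 0, 4], [1, 2, 1, 2, 1, 2], [1, 3, 1, 3], [1, 4, 1, 4], [0, 3, 2, 3, 2, 3, 2, 3, 2], [2, 4, 2, 4], [3, 4, 3, 4, 3, 4], [1, 2, 3, 4, 1, 2, 3, 4, 1, 2, 3, 4, 1, 2, 3, 4, 1, 2, 3, 4, 1, 2, 3, 4, 1, 2, 3, 4, 1, 2, 3, 4], [5, 5, 5, 5, 5, 5, 5], [6, 0, 5, 0], [6, 1, 5, 1], [6, 2, 5, 2], [5, 3, 5, 3], [4, 6, 4, 6, 6, 4, 5, 5, 5]]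

end H19.Th.DP
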